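import Groth.Agent.Lib.WEtaleH7.AbsFlat
import Groth.Agent.Lib.WEtaleH7.IndEtale15
import Groth.Agent.Lib.Hens.IndEtale
import Groth.Agent.Lib.DBaseChange.ResTor
import Groth.Agent.Lib.DBaseChange.ResCriterion
import Groth.Agent.S7127

/-!
# Tor amplitude ascends along weakly étale algebras
-/

set_option autoImplicit false
set_option linter.style.haveILetI false
set_option backward.isDefEq.respectTransparency false

universe u

open CategoryTheory CategoryTheory.Limits
open scoped TensorProduct

attribute [local instance] HasDerivedCategory.standard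

namespace Groth.Agent.WEtaleTor4

open Groth.Agent DBaseChange

variable (A : Type u) {B : Type u} [CommRing A] [CommRing B] [Algebra A B]

/-- Exactness over `A` gives exactness over a weakly étale algebra. -/
theorem exact_of_exact [Algebra.WeaklyEtale A B] {X Y Z N : Type u}
    [AddCommGroup X] [Module A X] [Module B X] [IsScalarTower A B X]
    [AddCommGroup Y] [Module A Y] [Module B Y] [IsScalarTower A B Y]
    [AddCommGroup Z] [Module A Z] [Module B Z] [IsScalarTower A B Z]
    [AddCommGroup N] [Module A N] [Module B N] [IsScalarTower A B N]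
    (f : X →ₗ[B] Y) (g : Y →ₗ[B] Z)
    (h : ∀ y, (g.restrictScalars A).rTensor N y = 0 → ∃ x, (f.restrictScalars A).rTensor N x = y) :
    ∀ z, g.rTensor N z = 0 → ∃ x, f.rTensor N x = z := by
  intro z hz
  obtain ⟨y, rfl⟩ := WEtaleH7.toB_surjective A (B := B) Y N z
  have hnat : ∀ {U V : Type u} [AddCommGroup U] [Module A U] [Module B U] [IsScalarTower A B U]
      [AddCommGroup V] [Module A V] [Module B V] [IsScalarTower A B V] (k : U →ₗ[B] V) (x : U ⊗[A] N),
      WEtaleH7.toB A (B := B) V N ((k.restrictScalars A).rTensor N x) =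
        k.rTensor N (WEtaleH7.toB A (B := B) U N x) := by
    intro U V _ _ _ _ _ _ _ _ k x
    induction x with
    | zero => simp
    | add x y hx hy => simp [map_add, hx, hy]
    | tmul m n => rfl
  rw [← hnat] at hz
  obtain ⟨e, he, hey⟩ := WEtaleH7.exists_fix A (Algebra.WeaklyEtale.flat_lmul' A B)
    ((WEtaleH7.toB_eq_zero_iff A Z N _).1 hz)
  obtain ⟨x, hx⟩ := h (y - WEtaleH7.act A Y N e y) (by rw [map_sub, WEtaleH7.act_natural, hey, sub_self])
  refine ⟨WEtaleH7.toB A (B := B) X N x, ?_⟩
  rw [← hnat, hx, map_sub, WEtaleH7.toB_act, show Algebra.TensorProduct.lmul' A e = (0 : B) from he, zero_smul,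
    sub_zero]

/-- Tor amplitude ascends along weakly étale algebras. -/
theorem torAmp_of_restrict [Algebra.WeaklyEtale A B] (a b : ℤ) (K : Dual.D B)
    (h : DRing.HasTorAmplitudeIn A a b ((DRing.restrictD (algebraMap A B)).obj K)) :
    DRing.HasTorAmplitudeIn B a b K := by
  let r := ModuleCat.restrictScalars.{u} (algebraMap A B)
  obtain ⟨W, ⟨eW⟩⟩ : ∃ W : DRing.Cx B, Nonempty (DRing.toD W ≅ K) :=
    ⟨DerivedCategory.Q.objPreimage K, ⟨DerivedCategory.Q.objObjPreimageIso K⟩⟩
  have eR : DRing.toD ((DRing.restrictCx (algebraMap A B)).obj W) ≅ (DRing.restrictD (algebraMap A B)).obj K :=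
    (r.mapDerivedCategoryFactors.app W).symm ≪≫ (DRing.restrictD (algebraMap A B)).mapIso eW
  have hW : DRing.HasTorAmplitudeIn A a b (DRing.toD ((DRing.restrictCx (algebraMap A B)).obj W)) :=
    hasTorAmplitudeIn_of_iso eR.symm h
  haveI : (DRing.toD W).IsLE b := by
    obtain ⟨E, hv, -, ⟨e⟩⟩ := hW
    have := DMod.isLE_toD hv
    have h1 : (DRing.toD ((DRing.restrictCx (algebraMap A B)).obj W)).IsLE b := DMod.exists_iso_of_isLE _ b e
    rw [DMod.isLE_iff] at h1 ⊢
    intro i hi
    have h2 := h1 i hi
    rw [DMod.subsingleton_HD_toD_iff,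
      DMod.subsingleton_homology_iff _ (i := i - 1) (k := i + 1) (by simp) (by simp)] at h2 ⊢
    exact h2
  obtain ⟨P, g, hP, hPf, hg⟩ := exists_flat_quasiIso_hom W b
  let P' := (DRing.restrictCx (algebraMap A B)).obj P
  haveI : P'.IsStrictlyLE b := by
    rw [CochainComplex.isStrictlyLE_iff]
    exact fun i hi => Functor.map_isZero r ((CochainComplex.isStrictlyLE_iff P b).1 hP i hi)
  have hflat : ∀ i, _root_.Module.Flat A (P'.X i) := fun i => by
    haveI := hPf i
    letI : _root_.Module A (P.X i) := _root_.Module.compHom _ (algebraMap A B)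
    haveI : IsScalarTower A B (P.X i) := ⟨fun x y z => by
      show (x • y) • z = algebraMap A B x • (y • z)
      rw [Algebra.smul_def, mul_smul]⟩
    haveI : _root_.Module.Flat A B := Algebra.WeaklyEtale.flat
    exact _root_.Module.Flat.trans A B (P.X i)
  have hP' : DRing.HasTorAmplitudeIn A a b (DRing.toD P') :=
    hasTorAmplitudeIn_of_iso ((DRing.restrictD (algebraMap A B)).mapIso (asIso (DerivedCategory.Q.map g) ≪≫ eW).symm ≪≫
      r.mapDerivedCategoryFactors.app P) h
  have hb := torBound_of_hasTorAmplitudeIn P' b hflat a b hP'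
  refine hasTorAmplitudeIn_of_iso (asIso (DerivedCategory.Q.map g) ≪≫ eW)
    (hasTorAmplitudeIn_of_torBound P b hPf a b fun M => ?_)
  rw [isGE_isLE_iff]
  intro i hi
  have h1 := (isGE_isLE_iff _ a b).1 (hb (r.obj M)) i hi
  rw [DMod.exactAt_iff_subsingleton,
    DMod.subsingleton_homology_iff _ (i := i - 1) (k := i + 1) (by simp) (by simp)] at h1 ⊢
  letI : ∀ N : ModuleCat.{u} B, _root_.Module A N := fun N => _root_.Module.compHom _ (algebraMap A B)
  haveI : ∀ N : ModuleCat.{u} B, IsScalarTower A B N := fun N => ⟨fun x y z => by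
    show (x • y) • z = algebraMap A B x • (y • z)
    rw [Algebra.smul_def, mul_smul]⟩
  exact exact_of_exact A (P.d (i - 1) i).hom (P.d i (i + 1)).hom h1

/-- Tor amplitude restricts along flat algebras. -/
theorem torAmp_restrict [_root_.Module.Flat A B] (a b : ℤ) (K : Dual.D B) (h : DRing.HasTorAmplitudeIn B a b K) :
    DRing.HasTorAmplitudeIn A a b ((DRing.restrictD (algebraMap A B)).obj K) := by
  obtain ⟨E, hv, hE, ⟨e⟩⟩ := h
  let r := ModuleCat.restrictScalars.{u} (algebraMap A B)
  refine ⟨(DRing.restrictCx (algebraMap A B)).obj E, fun i hi => Functor.map_isZero r (hv i hi), fun i => ?_,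
    ⟨(r.mapDerivedCategoryFactors.app E).symm ≪≫ (DRing.restrictD (algebraMap A B)).mapIso e⟩⟩
  haveI := hE i
  letI : _root_.Module A (E.X i) := _root_.Module.compHom _ (algebraMap A B)
  haveI : IsScalarTower A B (E.X i) := ⟨fun x y z => by
    show (x • y) • z = algebraMap A B x • (y • z)
    rw [Algebra.smul_def, mul_smul]⟩
  exact _root_.Module.Flat.trans A B (E.X i)

theorem weaklyEtale_henselization (R S : Type u) [CommRing R] [IsLocalRing R] [CommRing S] [IsLocalRing S]
    [Algebra R S] [IsLocalHom (algebraMap R S)] [Hensel.IsHenselization R S] : Algebra.WeaklyEtale R S :=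
  WEtaleH7.weaklyEtale_of_isIndEtale (Hens.isIndEtale_henselization R S)

theorem weaklyEtale_strictHenselization (R S : Type u) [CommRing R] [IsLocalRing R] [CommRing S] [IsLocalRing S]
    [Algebra R S] [IsLocalHom (algebraMap R S)] [Hensel.IsStrictHenselization R S] : Algebra.WeaklyEtale R S :=
  WEtaleH7.weaklyEtale_of_isIndEtale (Hens.isIndEtale_strictHenselization R S)

theorem flat_of_weaklyEtale (R S M : Type u) [CommRing R] [CommRing S] [Algebra R S] [Algebra.WeaklyEtale R S]
    [AddCommGroup M] [_root_.Module R M] [_root_.Module S M] [IsScalarTower R S M] [_root_.Module.Flat R M] :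
    _root_.Module.Flat S M :=
  WEtaleH7.flat_of_flat_lmul R M (Algebra.WeaklyEtale.flat_lmul' R S)

end Groth.Agent.WEtaleTor4
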